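import Groth.Agent.Lib.PCMor4.Koszul
import Groth.Agent.Lib.CI2.KoszulInv
import Groth.Agent.Lib.SmoothRegImm25.Chart
import Groth.Prelude.Def_BlowUp2
import Mathlib.RingTheory.MvPolynomial.Localization

/-!
# Affine blow-up algebras of regular sequences are perfect

For a Koszul regular sequence `c, a₁, …, aₙ` the sequence `c Xᵢ - aᵢ` is Koszul regular in `A[X₁, …, Xₙ]` and
generates the kernel of the presentation of the affine blow-up algebra.
-/

set_option autoImplicit false
set_option linter.style.haveILetI false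

universe u

open MvPolynomial
open Groth.Agent.CI2 (Ex)
open Groth.Agent.CanElt (KObj kd k0 kmap)

namespace Groth.Agent.BlowUpPerf4

/-- Koszul regularity is preserved by flat ring maps. -/
theorem ex_map_flat {A B : Type u} [CommRing A] [CommRing B] [Algebra A B] [Module.Flat A B] {l : List A}
    (h : Ex A A l) : Ex B B (l.map (algebraMap A B)) :=
  (h.of_flat B).map_bijective (σ := algebraMap A B)
    { toFun := id
      map_add' := fun _ _ => rfl
      map_smul' := fun a b => Algebra.smul_def a b }
    Function.bijective_id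

theorem mem_range_iff {R : Type u} [CommRing R] (l : List R) (b : R) :
    (∃ w, kd R R l 0 w = (k0 R R l).symm b) ↔ b ∈ Ideal.ofList l := by
  rw [← LinearMap.mem_range, CanElt.mem_range_kd_zero, LinearEquiv.apply_symm_apply, Ideal.smul_eq_mul,
    ← Ideal.one_eq_top, mul_one]

/-- If `f :: l` is Koszul regular and `l` becomes Koszul regular after inverting `f`, then `l` is Koszul regular. -/
theorem ex_of_ex_cons_of_away {P : Type u} [CommRing P] {f : P} {l : List P} (h : Ex P P (f :: l))
    (L : Type u) [CommRing L] [Algebra P L] [IsLocalization (Submonoid.powers f) L]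
    (hL : Ex L L (l.map (algebraMap P L))) : Ex P P l := by
  obtain ⟨-, h2⟩ := (CI2.ex_cons_iff _ _).1 h
  intro n z hz
  let ψ : P →ₛₗ[algebraMap P L] L :=
    { toFun := algebraMap P L
      map_add' := map_add _
      map_smul' := fun a b => map_mul _ a b }
  have hker : ∀ a, ψ a = 0 → ∃ s ∈ Submonoid.powers f, s • a = 0 := fun a ha => by
    obtain ⟨⟨s, hs⟩, h0⟩ := (IsLocalization.map_eq_zero_iff (Submonoid.powers f) L a).mp ha
    exact ⟨s, hs, h0⟩
  have hsurj : ∀ y, ∃ s ∈ Submonoid.powers f, ∃ a, ψ a = algebraMap P L s • y := fun y => by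
    obtain ⟨⟨a, s⟩, has⟩ := IsLocalization.surj (Submonoid.powers f) y
    exact ⟨s, s.2, a, by rw [smul_eq_mul, mul_comm, has]; rfl⟩
  obtain ⟨w, hw⟩ := hL n (kmap ψ l (n + 1) z) (by rw [← CanElt.kmap_kd, hz, map_zero])
  obtain ⟨s, hs, x, hx⟩ := CI2.exists_kmap_eq (Submonoid.powers f) ψ hsurj l (n + 2) w
  have h1 : kmap ψ l (n + 1) (kd P P l (n + 1) x - s • z) = 0 := by
    rw [map_sub, CanElt.kmap_kd, hx, map_smul, hw, LinearMap.map_smulₛₗ, sub_self]
  obtain ⟨t, ht, h2'⟩ := CI2.exists_mul_of_kmap_eq_zero (Submonoid.powers f) ψ hker l (n + 1) _ h1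
  obtain ⟨k, hk⟩ := mul_mem ht hs
  have hbd : ∃ w, kd P P l (n + 1) w = f ^ k • z :=
    ⟨t • x, by rw [map_smul, show f ^ k = t * s from hk, mul_smul, ← sub_eq_zero, ← smul_sub]; exact h2'⟩
  clear hk
  induction k with
  | zero => obtain ⟨w, hw⟩ := hbd; exact ⟨w, by rw [hw, pow_zero, one_smul]⟩
  | succ k ih =>
    refine ih (h2 (n + 1) (f ^ k • z) ?_ ?_)
    · show kd P P l n (f ^ k • z) = 0
      rw [map_smul, hz, smul_zero]
    · obtain ⟨w, hw⟩ := hbd
      exact ⟨w, by rw [hw, smul_smul, pow_succ']⟩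

/-- If `f :: l` is Koszul regular then `(l)` is saturated with respect to `f`. -/
theorem mem_of_pow_mul_mem {P : Type u} [CommRing P] {f : P} {l : List P} (h : Ex P P (f :: l)) {b : P} :
    ∀ k : ℕ, f ^ k * b ∈ Ideal.ofList l → b ∈ Ideal.ofList l := by
  intro k
  induction k generalizing b with
  | zero => simp
  | succ k ih =>
    intro hb
    have h1 := ih (b := f * b) (by rwa [← mul_assoc, ← pow_succ])
    rw [← mem_range_iff] at h1 ⊢
    obtain ⟨-, h2⟩ := (CI2.ex_cons_iff _ _).1 h
    obtain ⟨w, hw⟩ := h1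
    exact h2 0 _ trivial ⟨w, by rw [hw, ← map_smul, smul_eq_mul]⟩

/-- The variables form a Koszul regular sequence. -/
theorem ex_X (R : Type u) [CommRing R] (n : ℕ) :
    Ex (MvPolynomial (Fin n) R) (MvPolynomial (Fin n) R) (List.ofFn fun i => X (R := R) i) := by
  have h := CI2.ex_of_isWeaklyRegular _ _
    (_root_.Groth.Agent.SmoothRegImm25.isWeaklyRegular_X R (ι := ULift.{u} (Fin n)) ULift.up ULift.up_injective)
  have h2 := CI2.ex_map_equiv (renameEquiv R Equiv.ulift.{u, 0}).toRingEquiv h
  rw [List.map_ofFn] at h2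
  have he : (⇑(renameEquiv R Equiv.ulift.{u, 0}).toRingEquiv ∘ fun i : Fin n => X (R := R) (ULift.up.{u, 0} i)) =
      fun i => X (R := R) i := funext fun i => by simp
  rwa [he] at h2

/-- Translated variables. -/
theorem ex_X_sub_C {R : Type u} [CommRing R] {n : ℕ} (b : Fin n → R) :
    Ex (MvPolynomial (Fin n) R) (MvPolynomial (Fin n) R) (List.ofFn fun i => X (R := R) i - C (b i)) := by
  let e : MvPolynomial (Fin n) R ≃ₐ[R] MvPolynomial (Fin n) R :=
    AlgEquiv.ofAlgHom (aeval fun i => X i - C (b i)) (aeval fun i => X i + C (b i))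
      (MvPolynomial.algHom_ext fun i => by simp)
      (MvPolynomial.algHom_ext fun i => by simp)
  have h2 := CI2.ex_map_equiv e.toRingEquiv (ex_X R n)
  rw [List.map_ofFn] at h2
  have he : (⇑e.toRingEquiv ∘ fun i => X (R := R) i) = fun i => X (R := R) i - C (b i) := funext fun i => by simp [e]
  rwa [he] at h2

theorem sub_C_eval_mem {R : Type u} [CommRing R] {n : ℕ} (b : Fin n → R) (p : MvPolynomial (Fin n) R) :
    p - C (eval b p) ∈ Ideal.span (Set.range fun i => X (R := R) i - C (b i)) := by
  induction p using MvPolynomial.induction_on with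
  | C a => simp
  | add p q hp hq =>
    rw [map_add, map_add, add_sub_add_comm]
    exact add_mem hp hq
  | mul_X p i hp =>
    rw [map_mul, eval_X, map_mul, show p * X i - C (eval b p) * C (b i) =
      (p - C (eval b p)) * X i + C (eval b p) * (X i - C (b i)) by ring]
    exact add_mem (Ideal.mul_mem_right _ _ hp) (Ideal.mul_mem_left _ _ (Ideal.subset_span ⟨i, rfl⟩))

theorem ofList_ofFn {R : Type u} [CommRing R] {n : ℕ} (v : Fin n → R) :
    Ideal.ofList (List.ofFn v) = Ideal.span (Set.range v) := by
  refine congrArg Ideal.span (Set.ext fun x => ?_)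
  exact List.mem_ofFn

section Chart

variable {A : Type u} [CommRing A] {n : ℕ} (c : A) (a : Fin n → A)

/-- The equations of the chart. -/
noncomputable def eqn (i : Fin n) : MvPolynomial (Fin n) A := C c * X i - C (a i)

/-- The fractions. -/
noncomputable def frac (i : Fin n) : Localization.Away c :=
  IsLocalization.mk' _ (a i) (⟨c, Submonoid.mem_powers c⟩ : Submonoid.powers c)

theorem c_mul_frac (i : Fin n) :
    algebraMap A (Localization.Away c) c * frac c a i = algebraMap A (Localization.Away c) (a i) :=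
  IsLocalization.mk'_spec' _ (a i) (⟨c, Submonoid.mem_powers c⟩ : Submonoid.powers c)

/-- The presentation of the affine blow-up algebra, in the localisation. -/
noncomputable def pres : MvPolynomial (Fin n) A →ₐ[A] Localization.Away c := aeval (frac c a)

variable (h : Ex A A (c :: List.ofFn a))

attribute [local instance] MvPolynomial.algebraMvPolynomial in
include h in
theorem ex_and_ker :
    Ex (MvPolynomial (Fin n) A) (MvPolynomial (Fin n) A) (List.ofFn (eqn c a)) ∧
      RingHom.ker (pres c a) = Ideal.ofList (List.ofFn (eqn c a)) := by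
  have h1 : Ex (MvPolynomial (Fin n) A) (MvPolynomial (Fin n) A) (C c :: List.ofFn (eqn c a)) := by
    refine CI2.ex_of_ofList_eq (ex_map_flat (B := MvPolynomial (Fin n) A) h) ?_ (by simp)
    rw [List.map_cons, List.map_ofFn, Ideal.ofList_cons, Ideal.ofList_cons, ofList_ofFn, ofList_ofFn, algebraMap_eq]
    refine le_antisymm (sup_le le_sup_left (Ideal.span_le.2 ?_)) (sup_le le_sup_left (Ideal.span_le.2 ?_))
    · rintro _ ⟨i, rfl⟩
      exact sub_mem (Ideal.mem_sup_left (Ideal.mul_mem_right _ _ (Ideal.subset_span rfl)))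
        (Ideal.mem_sup_right (Ideal.subset_span ⟨i, rfl⟩))
    · rintro _ ⟨i, rfl⟩
      have h0 : C c * X i - eqn c a i ∈ Ideal.span {C c} ⊔ Ideal.span (Set.range (eqn c a)) :=
        sub_mem (Ideal.mem_sup_left (Ideal.mul_mem_right _ _ (Ideal.subset_span rfl)))
          (Ideal.mem_sup_right (Ideal.subset_span ⟨i, rfl⟩))
      simpa [eqn] using h0
  let R := Localization.Away c
  let Q := MvPolynomial (Fin n) R
  haveI : IsLocalization (Submonoid.powers (C c : MvPolynomial (Fin n) A)) Q := by
    rw [← Submonoid.map_powers]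
    exact MvPolynomial.isLocalization (σ := Fin n) (Submonoid.powers c) R
  have hu : IsUnit (algebraMap A R c) := IsLocalization.Away.algebraMap_isUnit c
  have hg : ∀ i, algebraMap (MvPolynomial (Fin n) A) Q (eqn c a i) =
      C (algebraMap A R c) * (X i - C (frac c a i)) := fun i => by
    rw [MvPolynomial.algebraMap_def, eqn, map_sub, map_mul, map_C, map_C, map_X, mul_sub, ← map_mul, c_mul_frac]
  have hspan : Ideal.ofList ((List.ofFn (eqn c a)).map (algebraMap (MvPolynomial (Fin n) A) Q)) =
      Ideal.span (Set.range fun i => X (R := R) i - C (frac c a i)) := by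
    rw [List.map_ofFn, ofList_ofFn]
    refine le_antisymm (Ideal.span_le.2 ?_) (Ideal.span_le.2 ?_)
    · rintro _ ⟨i, rfl⟩
      rw [Function.comp_apply, hg]
      exact Ideal.mul_mem_left _ _ (Ideal.subset_span ⟨i, rfl⟩)
    · rintro _ ⟨i, rfl⟩
      refine (Ideal.unit_mul_mem_iff_mem _ (hu.map (C (σ := Fin n)))).1 ?_
      rw [← hg]
      exact Ideal.subset_span ⟨i, rfl⟩
  refine ⟨ex_of_ex_cons_of_away h1 Q (CI2.ex_of_ofList_eq (ex_X_sub_C (frac c a))
    (hspan.trans (ofList_ofFn _).symm) (by simp)), le_antisymm (fun p hp => ?_) ?_⟩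
  · rw [RingHom.mem_ker] at hp
    have hp' : eval (frac c a) (algebraMap (MvPolynomial (Fin n) A) Q p) = 0 := by
      rw [MvPolynomial.algebraMap_def, eval_map, ← aeval_def]
      exact hp
    have h2 := sub_C_eval_mem (frac c a) (algebraMap (MvPolynomial (Fin n) A) Q p)
    rw [hp', map_zero, sub_zero, ← hspan, ← Ideal.map_ofList,
      IsLocalization.algebraMap_mem_map_algebraMap_iff (Submonoid.powers (C c))] at h2
    obtain ⟨m, ⟨k, rfl⟩, hm⟩ := h2
    exact mem_of_pow_mul_mem h1 k hm
  · rw [ofList_ofFn, Ideal.span_le]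
    rintro _ ⟨i, rfl⟩
    rw [SetLike.mem_coe, RingHom.mem_ker, pres, eqn, map_sub, map_mul, aeval_C, aeval_C, aeval_X, c_mul_frac, sub_self]

include h in
/-- The affine blow-up algebra of a Koszul regular sequence is perfect over the base. -/
theorem pfh_affineAlgebra {I : Ideal A} (hI : I = Ideal.span (insert c (Set.range a))) :
    PCMor4.PFH (algebraMap A (BlowUp.affineAlgebra A I c)) := by
  obtain ⟨hex, hk⟩ := ex_and_ker c a h
  have hr : (pres c a).range = BlowUp.affineAlgebra A I c := by
    refine le_antisymm ?_ (Algebra.adjoin_le ?_)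
    · rw [pres, ← Algebra.adjoin_range_eq_range_aeval]
      refine Algebra.adjoin_mono ?_
      rintro _ ⟨i, rfl⟩
      exact ⟨a i, hI ▸ Ideal.subset_span (Set.mem_insert_of_mem _ ⟨i, rfl⟩), rfl⟩
    · rintro _ ⟨x, hx, rfl⟩
      rw [hI] at hx
      let f : A →ₗ[A] Localization.Away c :=
        (LinearMap.mulRight A (IsLocalization.mk' (Localization.Away c) 1 (⟨c, Submonoid.mem_powers c⟩ : Submonoid.powers c))).comp
          (Algebra.linearMap A _)
      have hf : ∀ x, f x = IsLocalization.mk' (Localization.Away c) x (⟨c, Submonoid.mem_powers c⟩ : Submonoid.powers c) :=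
        fun x => (IsLocalization.mk'_eq_mul_mk'_one x _).symm
      rw [← hf]
      refine (Submodule.span_le (p := (pres c a).range.toSubmodule.comap f)).2 ?_ hx
      rintro y (rfl | ⟨i, rfl⟩)
      · show f y ∈ (pres y a).range
        rw [hf, IsLocalization.mk'_self]
        exact one_mem _
      · show f (a i) ∈ (pres c a).range
        rw [hf]
        exact ⟨X i, aeval_X _ _⟩
  subst hI
  let σ : MvPolynomial (Fin n) A →ₐ[A] BlowUp.affineAlgebra A (Ideal.span (insert c (Set.range a))) c :=
    (Subalgebra.equivOfEq _ _ hr).toAlgHom.comp (pres c a).rangeRestrict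
  have hs : Function.Surjective σ :=
    (Subalgebra.equivOfEq _ _ hr).surjective.comp (pres c a).rangeRestrict_surjective
  rw [← σ.comp_algebraMap]
  refine PCMor4.pfh_comp (PCMor4.pfh_mvPolynomial A n) (PCMor4.pfh_of_surjective σ.toRingHom hs ?_ ?_) <;>
  · have hk' : RingHom.ker σ.toRingHom = Ideal.ofList (List.ofFn (eqn c a)) := by
      rw [← hk]
      ext p
      exact ⟨fun hp => congrArg Subtype.val hp, fun hp => Subtype.ext hp⟩
    rw [hk']
    first
    | exact (PCMor4.quotient_ofList_perfect _ hex).1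
    | exact ⟨_, (PCMor4.quotient_ofList_perfect _ hex).2⟩

end Chart

end Groth.Agent.BlowUpPerf4
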