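import Groth.Agent.Lib.BlowUpPerf4.Alg
import Groth.Agent.Lib.BlowUpExist.Proper
import Groth.Agent.Lib.PCMor4.Local
import Groth.Prelude.Def_Mor2

/-!
# Blow-ups in regularly embedded centres are perfect
-/

set_option autoImplicit false
set_option linter.style.haveILetI false

universe u

open CategoryTheory CategoryTheory.Limits AlgebraicGeometry TopologicalSpace
open Groth.Agent.CI2 (Ex)

namespace Groth.Agent.BlowUpPerf4

open BlowUpExist BlowUpExist.ChartIdx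

variable {X Y : Scheme.{u}} {C : X.IdealSheafData} {b : Y ⟶ X}

/-- On some affine neighbourhood, the centre is generated by a Koszul regular sequence. -/
def RegularCentre (C : X.IdealSheafData) : Prop :=
  ∀ x : X, ∃ (U : X.affineOpens) (l : List Γ(X, U.1)), x ∈ U.1 ∧ Ex Γ(X, U.1) Γ(X, U.1) l ∧
    C.ideal U = Ideal.ofList l

theorem pfh_bij {A B : Type u} [CommRing A] [CommRing B] (f : A →+* B) (hf : Function.Bijective f) : PCMor4.PFH f :=
  ⟨PCMor4.pch_of_bijective _ hf, PCMor4.tdh_of_flat _ (RingHom.Flat.of_bijective hf)⟩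

theorem insert_range_succAbove {α β : Type*} (g : α → β) {n : ℕ} (v : Fin (n + 1) → α) (j : Fin (n + 1)) :
    insert (g (v j)) (Set.range fun k => g (v (j.succAbove k))) = Set.range (g ∘ v) := by
  ext x
  simp only [Set.mem_insert_iff, Set.mem_range, Function.comp_apply]
  constructor
  · rintro (rfl | ⟨k, rfl⟩)
    · exact ⟨j, rfl⟩
    · exact ⟨_, rfl⟩
  · rintro ⟨k, rfl⟩
    rcases Fin.eq_self_or_eq_succAbove j k with rfl | ⟨l, rfl⟩
    · exact Or.inl rfl
    · exact Or.inr ⟨l, rfl⟩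

/-- The charts at the generators cover. -/
theorem exists_gen_mem (hb : BlowUp.IsBlowUp b C) {U : X.affineOpens} {m : ℕ} (v : Fin m → Γ(X, U.1))
    (hv : C.ideal U = Ideal.span (Set.range v)) (hv' : ∀ k, v k ∈ (C ^ (0 + 1)).ideal U) {y : Y} (hy : b y ∈ U.1) :
    ∃ k, y ∈ (⟨U, 0, v k, hv' k⟩ : ChartIdx C).locus b := by
  obtain ⟨V, hyV, hVU, e, he⟩ := EffCartier.exists_isEqn hb.1 (show y ∈ b ⁻¹ᵁ U.1 from hy)
  have hdvd : ∀ k, e ∣ b.appLE U.1 V.1 hVU (v k) := fun k => by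
    rw [← Ideal.mem_span_singleton, ← he.ideal_eq, EffCartier.comap_ideal _ b U V hVU]
    exact Ideal.mem_map_of_mem _ (by rw [hv]; exact Ideal.subset_span ⟨k, rfl⟩)
  choose z hz using hdvd
  have hemem : e ∈ Ideal.span (Set.range fun k => b.appLE U.1 V.1 hVU (v k)) := by
    have h1 : e ∈ (C.comap b).ideal V := by rw [he.ideal_eq]; exact Ideal.subset_span rfl
    rw [EffCartier.comap_ideal _ b U V hVU, hv, Ideal.map_span, ← Set.range_comp] at h1
    exact h1
  obtain ⟨r, hr⟩ := (Ideal.mem_span_range_iff_exists_fun).mp hemem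
  have h1 : ∑ k, r k * z k = 1 := (mul_cancel_left_mem_nonZeroDivisors he.mem).mp (by
    rw [mul_one, Finset.mul_sum]
    exact (Finset.sum_congr rfl fun k _ => by rw [hz k]; ring).trans hr)
  have : ∃ k, y ∈ Y.basicOpen (z k) := by
    by_contra hne
    push Not at hne
    have hmem : Y.presheaf.germ V.1 y hyV (∑ k, r k * z k) ∈ IsLocalRing.maximalIdeal _ := by
      rw [map_sum]
      refine sum_mem fun k _ => ?_
      rw [map_mul]
      exact Ideal.mul_mem_left _ _ fun hu => hne k ((Scheme.mem_basicOpen _ _ _ hyV).mpr hu)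
    rw [h1, map_one] at hmem
    exact (IsLocalRing.notMem_maximalIdeal.mpr isUnit_one) hmem
  obtain ⟨k, hk⟩ := this
  refine ⟨k, le_locus (mem_basicOpen_ι _ hb.1 (V := V) hVU (e := e) ?_ (z k) (hz k)) hk⟩
  show EffCartier.IsEqn ((C ^ (0 + 1)).comap b) V e
  rw [zero_add, pow_one]
  exact he

/-- Blow-ups in regular centres are perfect. -/
theorem isPerfectMor_blowUp (hC : RegularCentre C) (hb : BlowUp.IsBlowUp b C) : MoreMor.IsPerfectMor b := by
  rw [PCMor4.isPerfectMor_iff]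
  refine PCMor4.pfMor_of_forall_exists b fun y => ?_
  obtain ⟨U, l, hyU, hl, hI⟩ := hC (b y)
  obtain ⟨m, v, rfl⟩ : ∃ (m : ℕ) (v : Fin m → Γ(X, U.1)), List.ofFn v = l := ⟨_, _, List.ofFn_get l⟩
  rw [ofList_ofFn] at hI
  have hv' : ∀ k, v k ∈ (C ^ (0 + 1)).ideal U := fun k => by
    rw [zero_add, pow_one, hI]; exact Ideal.subset_span ⟨k, rfl⟩
  obtain ⟨j, hj⟩ := exists_gen_mem hb v hI hv' hyU
  let i : ChartIdx C := ⟨U, 0, v j, hv' j⟩
  obtain ⟨n, rfl⟩ : ∃ n, m = n + 1 := ⟨m - 1, by have := j.2; omega⟩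
  refine ⟨i.locus b, U.1, locus_le i, isAffineOpen_locus hb i, U.2, hj, ?_⟩
  let σ : Γ(X, U.1) ≃+* Γ(i.U.1.toScheme, ⊤) := (U.1.topIso.symm).commRingCatIsoToRingEquiv
  obtain ⟨e, he⟩ := exists_locus_iso hb i
  let φ := (Scheme.ΓSpecIso (CommRingCat.of (BlowUp.affineAlgebra Γ(i.U.1.toScheme, ⊤) (i.J.ideal ⟨⊤, isAffineOpen_top _⟩) i.sec))).inv ≫
    e.hom.appTop ≫ (i.locus b).topIso.hom
  have : IsIso e.hom.appTop := inferInstanceAs (IsIso (Scheme.Γ.map e.hom.op))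
  have : IsIso φ := by dsimp [φ]; infer_instance
  have h1 : e.hom ≫ chartπ i.J i.sec = b.resLE i.U.1 (i.locus b) (locus_le i) := by
    rw [← cancel_mono i.U.1.ι, Category.assoc, Scheme.Hom.resLE_comp_ι]; exact he
  have h2 : CommRingCat.ofHom (algebraMap Γ(i.U.1.toScheme, ⊤) (BlowUp.affineAlgebra Γ(i.U.1.toScheme, ⊤) (i.J.ideal ⟨⊤, isAffineOpen_top _⟩) i.sec)) ≫ φ =
      i.U.1.topIso.hom ≫ b.appLE i.U.1 (i.locus b) (locus_le i) := by
    rw [← chartπ_appTop]
    simp only [φ, Category.assoc, Iso.hom_inv_id_assoc]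
    rw [← Category.assoc, ← Scheme.Hom.comp_appTop, h1, Scheme.Hom.appTop, Scheme.Hom.resLE_app_top]
    simp only [Category.assoc, Iso.inv_hom_id, Category.comp_id]
  have hfun : (b.appLE U.1 (i.locus b) (locus_le i)).hom =
      (φ.hom.comp (algebraMap Γ(i.U.1.toScheme, ⊤) (BlowUp.affineAlgebra Γ(i.U.1.toScheme, ⊤) (i.J.ideal ⟨⊤, isAffineOpen_top _⟩) i.sec))).comp σ.toRingHom := by
    have h3 : b.appLE U.1 (i.locus b) (locus_le i) = U.1.topIso.inv ≫
        (CommRingCat.ofHom (algebraMap Γ(i.U.1.toScheme, ⊤) (BlowUp.affineAlgebra Γ(i.U.1.toScheme, ⊤) (i.J.ideal ⟨⊤, isAffineOpen_top _⟩) i.sec)) ≫ φ) := by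
      exact ((Iso.inv_hom_id_assoc U.1.topIso _).symm).trans (congrArg (U.1.topIso.inv ≫ ·) h2.symm)
    exact congrArg CommRingCat.Hom.hom h3
  rw [hfun]
  refine PCMor4.pfh_comp (pfh_bij _ σ.bijective) (PCMor4.pfh_comp ?_ (pfh_bij _ (ConcreteCategory.bijective_of_isIso φ)))
  refine pfh_affineAlgebra i.sec (fun k => σ (v (j.succAbove k))) ?_ ?_
  · have h := CI2.ex_map_equiv σ hl
    rw [List.map_ofFn] at h
    refine CI2.ex_of_ofList_eq h ?_ (by simp)
    rw [Ideal.ofList_cons, ofList_ofFn, ofList_ofFn, ← Ideal.span_union, ← Set.insert_eq]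
    exact congrArg Ideal.span (insert_range_succAbove σ v j)
  · rw [ChartIdx.J_ideal_top]
    show ((C ^ (0 + 1)).ideal U).map _ = _
    rw [zero_add, pow_one, hI, Ideal.map_span, ← Set.range_comp]
    exact congrArg Ideal.span (insert_range_succAbove σ v j).symm

theorem regularCentre_of_isRegularClosedImmersion {Z : Scheme.{u}} (i : Z ⟶ X)
    (hi : Mor2.IsRegularClosedImmersion i) : RegularCentre i.ker := by
  intro x
  have := hi.1
  by_cases hx : x ∈ Set.range i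
  · obtain ⟨z, rfl⟩ := hx
    obtain ⟨U, hU, hzU, rs, hrs, hk⟩ := hi.2 z
    exact ⟨⟨U, hU⟩, rs, hzU, CI2.ex_of_isWeaklyRegular rs _ hrs.toIsWeaklyRegular, hk⟩
  · have hopen : IsOpen (Set.range i)ᶜ := i.isClosedEmbedding.isClosed_range.isOpen_compl
    obtain ⟨_, ⟨U, hU, rfl⟩, hxU, hUc⟩ := X.isBasis_affineOpens.exists_subset_of_mem_open (a := x) hx hopen
    refine ⟨⟨U, hU⟩, [1], hxU, (CI2.ex_of_unit_mem _ ⟨1, List.mem_singleton_self _, isUnit_one⟩).1, ?_⟩
    have hemp : i ⁻¹ᵁ U = ⊥ := le_bot_iff.1 fun z hz => hUc hz ⟨z, rfl⟩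
    have h1 : i.ker.ideal ⟨U, hU⟩ = ⊤ := by
      rw [Scheme.Hom.ker_apply]
      haveI : Subsingleton Γ(Z, i ⁻¹ᵁ U) := by rw [hemp]; infer_instance
      exact eq_top_iff.2 fun a _ => (RingHom.mem_ker).2 (Subsingleton.elim _ _)
    rw [h1, Ideal.ofList_singleton, Ideal.span_singleton_one]

end Groth.Agent.BlowUpPerf4
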